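import Cfsg.Agent.H0.PG2
set_option maxRecDepth 100000
set_option Elab.async false
set_option linter.unusedSectionVars false
namespace H0.MM11p
open H0 BN 
noncomputable def n0 : Net := (Net.cons (nat_lit 8) (nat_lit 0x10) (Net.cons (nat_lit 4) (nat_lit 0x400) (Net.cons (nat_lit 2) (nat_lit 0x1021) (Net.cons (nat_lit 1) (nat_lit 0x140) (Net.cons (nat_lit 2) (nat_lit 0x20) (Net.cons (nat_lit 4) (nat_lit 0x400) (Net.cons (nat_lit 8) (nat_lit 0x10) Net.nil)))))))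
noncomputable def n1 : Net := (Net.cons (nat_lit 8) (nat_lit 0xd0) (Net.cons (nat_lit 4) (nat_lit 0x20e) (Net.cons (nat_lit 2) (nat_lit 0x1020) (Net.cons (nat_lit 1) (nat_lit 0x1040) (Net.cons (nat_lit 2) (nat_lit 0x2000) (Net.cons (nat_lit 4) (nat_lit 0x20c) (Net.cons (nat_lit 8) (nat_lit 0xd0) Net.nil)))))))
noncomputable def n2 : Net := (Net.cons (nat_lit 8) (nat_lit 0xd0) (Net.cons (nat_lit 4) (nat_lit 0x202) (Net.cons (nat_lit 2) (nat_lit 0x1000) (Net.cons (nat_lit 1) (nat_lit 0x4004) (Net.cons (nat_lit 2) (nat_lit 0x2002) (Net.cons (nat_lit 4) (nat_lit 0x200) (Net.cons (nat_lit 8) (nat_lit 0xd0) Net.nil)))))))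
noncomputable def n3 : Net := (Net.cons (nat_lit 8) (nat_lit 0x40) (Net.cons (nat_lit 4) (nat_lit 0x404) (Net.cons (nat_lit 2) (nat_lit 0x232) (Net.cons (nat_lit 1) (nat_lit 0x450) (Net.cons (nat_lit 2) (nat_lit 0x200) (Net.cons (nat_lit 4) (nat_lit 0x404) (Net.cons (nat_lit 8) (nat_lit 0x40) Net.nil)))))))
noncomputable def n4 : Net := (Net.cons (nat_lit 8) (nat_lit 0xe8) (Net.cons (nat_lit 4) (nat_lit 0x200) (Net.cons (nat_lit 2) (nat_lit 0x2100) (Net.cons (nat_lit 4) (nat_lit 0xc00) (Net.cons (nat_lit 8) (nat_lit 0xec) Net.nil)))))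
noncomputable def n5 : Net := (Net.cons (nat_lit 8) (nat_lit 0xec) (Net.cons (nat_lit 4) (nat_lit 0x600) (Net.cons (nat_lit 2) (nat_lit 0x300) (Net.cons (nat_lit 4) (nat_lit 0x800) (Net.cons (nat_lit 8) (nat_lit 0xe8) Net.nil)))))
noncomputable def n6 : Net := (Net.cons (nat_lit 8) (nat_lit 0xec) (Net.cons (nat_lit 4) (nat_lit 0x600) (Net.cons (nat_lit 2) (nat_lit 0x300) (Net.cons (nat_lit 4) (nat_lit 0x800) (Net.cons (nat_lit 8) (nat_lit 0xe8) Net.nil)))))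
noncomputable def n7 : Net := (Net.cons (nat_lit 8) (nat_lit 0xe8) (Net.cons (nat_lit 4) (nat_lit 0x200) (Net.cons (nat_lit 2) (nat_lit 0x2100) (Net.cons (nat_lit 4) (nat_lit 0xc00) (Net.cons (nat_lit 8) (nat_lit 0xec) Net.nil)))))
noncomputable def n8 : Net := (Net.cons (nat_lit 8) (nat_lit 0x8c) (Net.cons (nat_lit 4) (nat_lit 0x4) (Net.cons (nat_lit 2) (nat_lit 0x210) (Net.cons (nat_lit 1) (nat_lit 0x110) (Net.cons (nat_lit 4) (nat_lit 0x804) (Net.cons (nat_lit 8) (nat_lit 0x88) Net.nil))))))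
noncomputable def n9 : Net := (Net.cons (nat_lit 8) (nat_lit 0xbc) (Net.cons (nat_lit 4) (nat_lit 0xc00) (Net.cons (nat_lit 2) (nat_lit 0x3000) (Net.cons (nat_lit 1) (nat_lit 0x4100) (Net.cons (nat_lit 2) (nat_lit 0x2200) (Net.cons (nat_lit 4) (nat_lit 0x400) (Net.cons (nat_lit 8) (nat_lit 0xb8) Net.nil)))))))
noncomputable def n10 : Net := (Net.cons (nat_lit 8) (nat_lit 0xf8) (Net.cons (nat_lit 4) (nat_lit 0x200) (Net.cons (nat_lit 2) (nat_lit 0x1100) (Net.cons (nat_lit 1) (nat_lit 0x4100) (Net.cons (nat_lit 2) (nat_lit 0x2200) (Net.cons (nat_lit 4) (nat_lit 0x400) (Net.cons (nat_lit 8) (nat_lit 0xf8) Net.nil)))))))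
noncomputable def n11 : Net := (Net.cons (nat_lit 8) (nat_lit 0xf8) (Net.cons (nat_lit 4) (nat_lit 0xd00) (Net.cons (nat_lit 2) (nat_lit 0x300) (Net.cons (nat_lit 1) (nat_lit 0x5000) (Net.cons (nat_lit 4) (nat_lit 0x400) (Net.cons (nat_lit 8) (nat_lit 0xf8) Net.nil))))))
noncomputable def n12 : Net := (Net.cons (nat_lit 8) (nat_lit 0xf8) (Net.cons (nat_lit 4) (nat_lit 0xe00) (Net.cons (nat_lit 2) (nat_lit 0x3200) (Net.cons (nat_lit 1) (nat_lit 0x5100) (Net.cons (nat_lit 2) (nat_lit 0x200) (Net.cons (nat_lit 8) (nat_lit 0xf8) Net.nil))))))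
noncomputable def n13 : Net := (Net.cons (nat_lit 8) (nat_lit 0xf8) (Net.cons (nat_lit 4) (nat_lit 0x700) (Net.cons (nat_lit 2) (nat_lit 0x2300) (Net.cons (nat_lit 1) (nat_lit 0x1500) (Net.cons (nat_lit 2) (nat_lit 0x2000) (Net.cons (nat_lit 8) (nat_lit 0xf8) Net.nil))))))
noncomputable def n14 : Net := (Net.cons (nat_lit 8) (nat_lit 0x52) (Net.cons (nat_lit 4) (nat_lit 0x702) (Net.cons (nat_lit 2) (nat_lit 0x3023) (Net.cons (nat_lit 1) (nat_lit 0x4001) (Net.cons (nat_lit 2) (nat_lit 0x2000) (Net.cons (nat_lit 4) (nat_lit 0x200) (Net.cons (nat_lit 8) (nat_lit 0x50) Net.nil)))))))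
def B : List (List ℕ) := [[0, 0], [1, 2], [2, 1], [3, 3], [4, 5], [5, 4], [6, 7], [7, 6], [8, 9], [9, 8], [10, 11], [11, 10], [12, 13], [13, 12], [10, 10, 10, 10], [12, 12, 12, 12], [10, 12, 10, 12, 10, 12, 10, 12], [10, 12, 11, 13, 10, 12, 11, 13], [10, 13, 10, 13, 10, 13, 10, 13], [10, 10, 13, 13], [10, 12, 10, 13], [6, 6, 6, 6], [8, 8, 8, 8], [7, 9, 11], [9, 7, 8, 13], [6, 8, 6, 8, 6, 8, 6, 8], [6, 8, 7, 9, 6, 8, 7, 9], [6, 9, 6, 9, 6, 9, 6, 9], [4, 4, 4, 4], [5, 7], [3, 4, 3, 5, 3, 5, 3, 9], [3, 4, 3, 4, 3, 4, 3, 4, 3, 4, 3, 4, 3, 4, 3, 4], [3, 4, 3, 5, 3, 4, 3, 5, 3, 4, 3, 5], [3, 5, 3, 5, 3, 5, 3, 5, 3, 5, 3, 5, 3, 5, 3, 5], [3, 8, 12, 3, 7, 8], [3, 5, 11, 3, 9, 9, 7], [3, 11, 3, 10, 3, 13, 7], [3, 4, 3, 13, 3, 8, 7], [1, 1, 1, 1], [1, 1, 3], [0, 2, 2, 0, 2, 0, 2, 0, 1, 0, 1, 1, 0, 5], [0, 1, 0, 1, 0, 1, 0, 1, 0, 1, 0, 1, 0, 1, 0, 1, 0, 1, 0, 1, 0, 1], [0, 1, 0, 2, 0, 1,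 0, 2, 0, 1, 0, 2, 0, 1, 0, 2, 0, 1, 0, 2, 0, 1, 0, 2], [0, 2, 0, 2, 0, 2, 0, 2, 0, 2, 0, 2, 0, 2, 0, 2, 0, 2, 0, 2, 0, 2], [0, 10, 0, 12], [1, 9, 13, 3, 10, 5], [0, 4, 0, 8, 0, 4, 8], [0, 3, 9, 5, 0, 4, 8, 3], [0, 4, 2, 5, 0, 8, 3, 5, 13], [0, 2, 4, 1, 0, 4, 12, 3, 13], [0, 9, 1, 4, 0, 13, 3, 13, 5], [0, 2, 10, 1, 0, 3, 11, 9, 3]]
def inv (x : ℕ) : ℕ := [0, 2, 1, 3, 5, 4, 7, 6, 9, 8, 11, 10, 13, 12].getD x 0
noncomputable def nl : List Net := [n0, n1, n2, n3, n4, n5, n6, n7, n8, n9, n10, n11, n12, n13, n14]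
theorem nl_ok : allL (Net.ok (nat_lit 16)) nl = true := by decide +kernel
noncomputable def R : Rep := mkRep (nat_lit 4) (nat_lit 16) nl (by decide +kernel) nl_ok
def defs : List (List ℕ) := [[2, 0]]
theorem R_ge : ∀ x, 14 + defs.length ≤ x → R.p x = 1 := fun _ hx => mkRep_ge hx
def ngSt : List (List (ℕ × List ℕ) × List ℕ × ℕ × ℕ) := [([(0, [13])], [0], 3, 2), ([(1, [])], [8], 3, 4), ([(2, [])], [9], 1, 4), ([(2, [])], [1], 3, 4), ([(4, [])], [2], 1, 4), ([(4, [])], [4], 5, 4), ([(6, [])], [5], 1, 4), ([(6, [])], [6], 1, 4), ([(7, [])], [7], 1, 4), ([(6, [])], [12], 3, 4), ([(10, [])], [13], 1, 4), ([(0, []), (0, [1])], [3], 1, 2), ([(12, [])], [10], 5, 4), ([(13, [])], [11], 1, 4)]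
def ngR : List (List ℕ) := ngRels inv ngSt [[14]]
def xR : List (List ℕ) := [wpow [14] 11]
theorem c0 : relsW R 0 R.lg ((B.drop 0).take 52) = true := by decide +kernel
theorem c1 : defsChk R defs 14 = true := by decide +kernel
theorem c2 : Model.fixW R [] [[0], [1]] = true := by decide +kernel
theorem c3 : Model.growW R [[0], [1]] [0, 1, 1, 0, 1, 1, 0, 1, 0] (Nat.pow 2 0) (ival 0 11) = true := by decide +kernel
theorem c4 : Model.fixW R [0] [[3], [4]] = true := by decide +kernel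
theorem c5 : Model.growW R [[3], [4]] [0, 1, 0, 1, 0, 1, 0, 1] (Nat.pow 2 1) (ival 1 10) = true := by decide +kernel
theorem c6 : Model.fixW R [1, 0] [[6], [8]] = true := by decide +kernel
theorem c7 : Model.growW R [[6], [8]] [0, 0, 1, 1, 1] (Nat.pow 2 2) (ival 2 9) = true := by decide +kernel
theorem c8 : Model.fixW R [2, 1, 0] [[10], [12]] = true := by decide +kernel
theorem c9 : Model.growW R [[10], [12]] [0, 1, 0, 0] (Nat.pow 2 3) (ival 3 8) = true := by decide +kernel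
theorem c10 : Model.growW R [[0], [1]] [0, 1, 1, 0, 1, 1, 0, 1, 0] (Nat.pow 2 0) (ival 0 11) = true := by decide +kernel
theorem c11 : Model.invW R [[0], [1], [2], [3], [4], [5], [6], [7], [8], [9], [10], [11], [12], [13]] 0 11 = true := by decide +kernel
theorem c12 : Model.fixW R [0] [[3], [4]] = true := by decide +kernel
theorem c13 : Model.growW R [[3], [4]] [0, 1, 1, 0, 1, 0] (Nat.pow 2 2) (ival 1 10) = true := by decide +kernel
theorem c14 : mapsW R [0] (Nat.pow 2 0) (Nat.pow 2 2) = true := by decide +kernel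
theorem c15 : Model.growW R [[0], [3], [4]] [0, 1, 2, 0, 1, 2, 1] (Nat.pow 2 0) (ival 0 11) = true := by decide +kernel
theorem c16 : relsW R 0 R.lg ((ngR.drop 0).take 28) = true := by decide +kernel
theorem c17 : relsW R 0 R.lg ((xR.drop 0).take 1) = true := by decide +kernel
end H0.MM11p
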